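import Groth.Agent.FlatLocus.FibreStalk
import Groth.Agent.GeomRedPtLib.SmoothPt
import Groth.Agent.GeomRk.FibSmooth
import Groth.Agent.GeomRk.AnyExt
import Groth.Agent.EtAlgEasy.SmoothStalk
import Groth.Agent.GenIrredLib.SectionDimConst
import Groth.Agent.S2156

/-!
The local ring of the fibre as a quotient of the local ring, with its structure over the residue field, and
smoothness at a point in terms of its geometric regularity.
-/

set_option autoImplicit false
set_option linter.style.haveILetI false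
set_option backward.isDefEq.respectTransparency false

universe u

open CategoryTheory CategoryTheory.Limits AlgebraicGeometry IsLocalRing TensorProduct

namespace Groth.Agent.GeomRegFibLib

variable {X Y : Scheme.{u}} (f : X ⟶ Y)

/-- The ideal of the fibre. -/
noncomputable abbrev fibIdeal (x : X) : Ideal (X.presheaf.stalk x) :=
  (maximalIdeal (Y.presheaf.stalk (f x))).map (f.stalkMap x).hom

theorem fromSpecResidueField_appLE (y : Y) (V : Y.Opens) (hy : y ∈ V)
    (e : (⊤ : (Spec (Y.residueField y)).Opens) ≤ Y.fromSpecResidueField y ⁻¹ᵁ V) :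
    (Y.fromSpecResidueField y).appLE V ⊤ e =
      Y.presheaf.germ V y hy ≫ Y.residue y ≫ (Scheme.ΓSpecIso (Y.residueField y)).inv := by
  simp only [Scheme.Hom.appLE, Scheme.fromSpecResidueField, Scheme.Hom.comp_app, Scheme.fromSpecStalk_app hy,
    Category.assoc]
  rw [Scheme.ΓSpecIso_inv_naturality]
  simp [Scheme.Hom.naturality_assoc, Scheme.Hom.appTop, ← Functor.map_comp]
  refine congrArg (_ ≫ ·) ?_
  have key : ∀ i : Opposite.op (⊤ : (Spec (Y.residueField y)).Opens) ⟶ Opposite.op ⊤,
      (Spec (Y.residueField y)).presheaf.map i = 𝟙 _ := fun i => by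
    rw [Subsingleton.elim i (𝟙 _)]
    exact CategoryTheory.Functor.map_id _ _
  erw [key, Category.comp_id]

/-- Compatibility of the map to the stalk of the fibre with the structure over the residue field. -/
theorem fiberι_stalkMap_structure (x : X) (z : f.fiber (f x)) (hx : f.fiberι (f x) z = x)
    (b : Y.presheaf.stalk (f x)) :
    letI : (f.fiber (f x)).Over (Spec (CommRingCat.of (ResidueField (Y.presheaf.stalk (f x))))) :=
      ⟨f.fiberToSpecResidueField (f x)⟩
    (f.fiberι (f x)).stalkMap z (X.presheaf.stalkSpecializes (specializes_of_eq hx) (f.stalkMap x b)) =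
      Curv2.stalkMap (ResidueField (Y.presheaf.stalk (f x))) (f.fiber (f x)) z (residue _ b) := by
  obtain ⟨V, hV, sec, rfl⟩ := TopCat.Presheaf.exists_germ_eq Y.presheaf b
  have hW : f.fiberι (f x) z ∈ f ⁻¹ᵁ V := by rw [hx]; exact hV
  rw [Scheme.Hom.germ_stalkMap_apply, TopCat.Presheaf.germ_stalkSpecializes_apply,
    Scheme.Hom.germ_stalkMap_apply]
  have e0 : (⊤ : (Spec (Y.residueField (f x))).Opens) ≤ Y.fromSpecResidueField (f x) ⁻¹ᵁ V := fun w _ => by
    show Y.fromSpecResidueField (f x) w ∈ V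
    rw [Scheme.fromSpecResidueField_apply]; exact hV
  have e1 : (⊤ : (f.fiber (f x)).Opens) ≤ (f.fiberι (f x) ≫ f) ⁻¹ᵁ V := fun w _ => by
    show (f.fiberι (f x) ≫ f) w ∈ V
    rw [f.fiber_fac, Scheme.Hom.comp_apply, Scheme.fromSpecResidueField_apply]; exact hV
  have h1 : (f.fiber (f x)).presheaf.germ ((f.fiberι (f x) ≫ f) ⁻¹ᵁ V) z (e1 trivial)
      ((f.fiberι (f x) ≫ f).app V sec) =
      (f.fiber (f x)).presheaf.germ ⊤ z trivial ((f.fiberι (f x) ≫ f).appLE V ⊤ e1 sec) := by
    rw [Scheme.Hom.appLE, CommRingCat.comp_apply, TopCat.Presheaf.germ_res_apply]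
  refine h1.trans ?_
  have h2 : (f.fiberι (f x) ≫ f).appLE V ⊤ e1 =
      (f.fiberToSpecResidueField (f x) ≫ Y.fromSpecResidueField (f x)).appLE V ⊤ (fun w _ => by
        show Y.fromSpecResidueField (f x) (f.fiberToSpecResidueField (f x) w) ∈ V
        rw [Scheme.fromSpecResidueField_apply]; exact hV) := by
    congr 1; exact f.fiber_fac _
  rw [h2, ← Scheme.Hom.appLE_comp_appLE _ _ V ⊤ ⊤ e0 le_top, CommRingCat.comp_apply,
    fromSpecResidueField_appLE (f x) V hV e0]
  have h3 : (f.fiberToSpecResidueField (f x)).appLE ⊤ ⊤ le_top = (f.fiberToSpecResidueField (f x)).appTop := by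
    simp [Scheme.Hom.appLE]
  erw [h3]
  rfl

theorem specializes_map_fibIdeal (x x' : X) (h : x' = x) :
    Function.Bijective (X.presheaf.stalkSpecializes (specializes_of_eq h)).hom ∧
      (fibIdeal f x).map (X.presheaf.stalkSpecializes (specializes_of_eq h)).hom = fibIdeal f x' := by
  subst h
  have : X.presheaf.stalkSpecializes (specializes_of_eq (rfl : x' = x')) = 𝟙 _ := by simp
  rw [this]
  exact ⟨Function.bijective_id, Ideal.map_id _⟩

/-- The local ring of the fibre as a quotient, over the residue field. -/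
theorem exists_algEquiv (x : X) :
    letI : (f.fiber (f x)).Over (Spec (CommRingCat.of (ResidueField (Y.presheaf.stalk (f x))))) :=
      ⟨f.fiberToSpecResidueField (f x)⟩
    letI : Algebra (ResidueField (Y.presheaf.stalk (f x))) (↑(X.presheaf.stalk x) ⧸ fibIdeal f x) :=
      (Ideal.quotientMap (fibIdeal f x) (f.stalkMap x).hom Ideal.le_comap_map).toAlgebra
    letI := Curv2.stalkAlgebra (ResidueField (Y.presheaf.stalk (f x))) (f.fiber (f x)) (f.asFiber x)
    Nonempty ((↑(X.presheaf.stalk x) ⧸ fibIdeal f x) ≃ₐ[ResidueField (Y.presheaf.stalk (f x))]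
      (f.fiber (f x)).presheaf.stalk (f.asFiber x)) := by
  letI : (f.fiber (f x)).Over (Spec (CommRingCat.of (ResidueField (Y.presheaf.stalk (f x))))) :=
    ⟨f.fiberToSpecResidueField (f x)⟩
  letI : Algebra (ResidueField (Y.presheaf.stalk (f x))) (↑(X.presheaf.stalk x) ⧸ fibIdeal f x) :=
    (Ideal.quotientMap (fibIdeal f x) (f.stalkMap x).hom Ideal.le_comap_map).toAlgebra
  letI := Curv2.stalkAlgebra (ResidueField (Y.presheaf.stalk (f x))) (f.fiber (f x)) (f.asFiber x)
  let z := f.asFiber x
  have hx : f.fiberι (f x) z = x := f.fiberι_asFiber x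
  obtain ⟨hb, hI⟩ := specializes_map_fibIdeal f x _ hx
  let ψ : X.presheaf.stalk x →+* (f.fiber (f x)).presheaf.stalk z :=
    ((f.fiberι (f x)).stalkMap z).hom.comp (X.presheaf.stalkSpecializes (specializes_of_eq hx)).hom
  have hψ : Function.Surjective ψ :=
    (FlatLocus.fiberι_stalkMap_surjective f (f x) z).comp hb.2
  have hker : RingHom.ker ψ = fibIdeal f x := by
    rw [show RingHom.ker ψ = (RingHom.ker ((f.fiberι (f x)).stalkMap z).hom).comap
        (X.presheaf.stalkSpecializes (specializes_of_eq hx)).hom from (RingHom.comap_ker _ _).symm,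
      FlatLocus.ker_fiberι_stalkMap f (f x) z]
    show (fibIdeal f (f.fiberι (f x) z)).comap _ = _
    rw [← hI, Ideal.comap_map_of_bijective _ hb]
  let E : (↑(X.presheaf.stalk x) ⧸ fibIdeal f x) ≃+* (f.fiber (f x)).presheaf.stalk z :=
    (Ideal.quotEquivOfEq hker.symm).trans (RingHom.quotientKerEquivOfSurjective hψ)
  refine ⟨AlgEquiv.ofRingEquiv (f := E) fun c => ?_⟩
  obtain ⟨b, rfl⟩ := Ideal.Quotient.mk_surjective c
  exact fiberι_stalkMap_structure f x z hx b

/-- The fibre through `x` is smooth at `x` iff its local ring is geometrically regular. -/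
theorem fibSm_iff_geometricallyRegular [LocallyOfFinitePresentation f] (x : X) :
    letI : Algebra (ResidueField (Y.presheaf.stalk (f x))) (↑(X.presheaf.stalk x) ⧸ fibIdeal f x) :=
      (Ideal.quotientMap (fibIdeal f x) (f.stalkMap x).hom Ideal.le_comap_map).toAlgebra
    GeomRk.FibSm f x ↔
      CAlg.IsGeometricallyRegular (ResidueField (Y.presheaf.stalk (f x))) (↑(X.presheaf.stalk x) ⧸ fibIdeal f x) := by
  letI : (f.fiber (f x)).Over (Spec (CommRingCat.of (ResidueField (Y.presheaf.stalk (f x))))) :=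
    ⟨f.fiberToSpecResidueField (f x)⟩
  letI : Algebra (ResidueField (Y.presheaf.stalk (f x))) (↑(X.presheaf.stalk x) ⧸ fibIdeal f x) :=
    (Ideal.quotientMap (fibIdeal f x) (f.stalkMap x).hom Ideal.le_comap_map).toAlgebra
  letI := Curv2.stalkAlgebra (ResidueField (Y.presheaf.stalk (f x))) (f.fiber (f x)) (f.asFiber x)
  haveI : LocallyOfFinitePresentation
      (f.fiber (f x) ↘ Spec (CommRingCat.of (ResidueField (Y.presheaf.stalk (f x))))) := GeomRk.lfp_fibre f (f x)
  obtain ⟨e⟩ := exists_algEquiv f x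
  have h1 := (GeomRedPtLib.mem_smoothLocus_iff_formallySmooth_stalk
    (k := ResidueField (Y.presheaf.stalk (f x))) (f.asFiber x)).trans
    (GeomRedPtLib.formallySmooth_stalk_iff_isGeometricallyRegular (f.asFiber x))
  refine Iff.trans h1 ⟨fun h k' _ _ hk => ?_, fun h k' _ _ hk => ?_⟩
  · haveI := h k' hk
    exact IsRegularRing.of_ringEquiv
      (Algebra.TensorProduct.congr (AlgEquiv.refl (R := ResidueField (Y.presheaf.stalk (f x))) (A₁ := k')) e.symm).toRingEquiv
  · haveI := h k' hk
    exact IsRegularRing.of_ringEquiv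
      (Algebra.TensorProduct.congr (AlgEquiv.refl (R := ResidueField (Y.presheaf.stalk (f x))) (A₁ := k')) e).toRingEquiv

/-- Smoothness at a point: flatness and geometric regularity of the local ring of the fibre. -/
theorem mem_smoothLocus_iff [LocallyOfFinitePresentation f] (x : X) :
    letI : Algebra (ResidueField (Y.presheaf.stalk (f x))) (↑(X.presheaf.stalk x) ⧸ fibIdeal f x) :=
      (Ideal.quotientMap (fibIdeal f x) (f.stalkMap x).hom Ideal.le_comap_map).toAlgebra
    x ∈ f.smoothLocus ↔ (f.stalkMap x).hom.Flat ∧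
      CAlg.IsGeometricallyRegular (ResidueField (Y.presheaf.stalk (f x))) (↑(X.presheaf.stalk x) ⧸ fibIdeal f x) := by
  haveI := GeomRk.lfp_fibre f (f.base x)
  exact (Groth.Agent.S2156.result f x).trans (and_congr_right fun _ => fibSm_iff_geometricallyRegular f x)

theorem exists_nhd_smooth_iff [LocallyOfFinitePresentation f] (x : X) :
    (∃ U : X.Opens, x ∈ U ∧ Smooth (U.ι ≫ f)) ↔ x ∈ f.smoothLocus := by
  refine ⟨EtAlgEasy.SmoothStalk.mem_smoothLocus_of_nhd f, fun h => ⟨f.smoothLocus, h, ?_⟩⟩
  rw [← Scheme.Hom.smoothLocus_eq_top_iff, ← Scheme.Hom.preimage_smoothLocus_eq]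
  exact Scheme.Opens.ι_preimage_self _

/-- A smooth local ring over a field is regular. -/
theorem isRegularLocalRing_of_mem_smoothLocus {k : Type u} [Field k] (g : X ⟶ Spec (CommRingCat.of k))
    [LocallyOfFinitePresentation g] {w : X} (hw : w ∈ g.smoothLocus) : IsRegularLocalRing (X.presheaf.stalk w) := by
  letI : X.Over (Spec (CommRingCat.of k)) := ⟨g⟩
  letI := Curv2.stalkAlgebra k X w
  haveI : LocallyOfFinitePresentation (X ↘ Spec (CommRingCat.of k)) := ‹LocallyOfFinitePresentation g›
  have h := (GeomRedPtLib.formallySmooth_stalk_iff_isGeometricallyRegular (k := k) w).1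
    ((GeomRedPtLib.mem_smoothLocus_iff_formallySmooth_stalk (k := k) w).1 hw)
  haveI := h k inferInstance
  haveI : IsRegularRing (X.presheaf.stalk w) :=
    IsRegularRing.of_ringEquiv (Algebra.TensorProduct.lid k (X.presheaf.stalk w)).toRingEquiv
  exact IsRegularLocalRing.of_isRegularRing_of_isLocalRing _

/-- A smooth point of a scheme over a field is geometrically reduced. -/
theorem isGeomReducedAt_of_mem_smoothLocus {k : Type u} [Field k] (g : X ⟶ Spec (CommRingCat.of k))
    [LocallyOfFinitePresentation g] {x : X} (hx : x ∈ g.smoothLocus) : FBase.IsGeomReducedAt g x := by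
  rw [GeomRk.geomReduced_iff g x]
  intro z hz hd
  have hzs : z ∈ g.smoothLocus := hz.mem_open g.smoothLocus.2 hx
  haveI := isRegularLocalRing_of_mem_smoothLocus g hzs
  refine ⟨?_, hzs⟩
  rw [← GeomRk.depth_eq_dim_of_regular, hd]
  rfl

/-- Geometric reducedness of the fibre at a point where its local ring is geometrically regular. -/
theorem isGeomReducedAt_fibre [LocallyOfFinitePresentation f] (x : X) (h : GeomRk.FibSm f x) :
    FBase.IsGeomReducedAt (f.fiberToSpecResidueField (f.base x)) (f.asFiber x) :=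
  haveI := GeomRk.lfp_fibre f (f.base x)
  isGeomReducedAt_of_mem_smoothLocus (k := Y.residueField (f x)) (f.fiberToSpecResidueField (f x)) h

/-- Near a smooth point the map is universally open. -/
theorem isUnivOpenAt_of_smooth_nhd (U : X.Opens) [Smooth (U.ι ≫ f)] (x : X) (hx : x ∈ U) :
    EGA43.IsUnivOpenAt f x :=
  UnivOpenAtLib.univOpenAt_of_comp (f := U.ι) (x := ⟨x, hx⟩)
    (GenIrredLib.isUnivOpenAt_of_universallyOpen (f := U.ι ≫ f) _)

/-- Flatness on a neighbourhood gives flatness of the map of local rings. -/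
theorem flat_stalkMap_of_nhd (U : X.Opens) [Flat (U.ι ≫ f)] (x : X) (hx : x ∈ U) : (f.stalkMap x).hom.Flat := by
  have h := Flat.stalkMap (U.ι ≫ f) ⟨x, hx⟩
  rw [Scheme.Hom.stalkMap_comp] at h
  exact (RingHom.Flat.respectsIso.cancel_right_isIso (f.stalkMap x) (U.ι.stalkMap ⟨x, hx⟩)).1 h

/-- Generic points of the fibre through `x` lie in every neighbourhood of `x`. -/
theorem fiberι_mem_of_mem_closure (x : X) (z : f.fiber (f.base x)) (hz : f.asFiber x ∈ closure {z}) {W : Set X}
    (hW : IsOpen W) (hxW : x ∈ W) : (f.fiberι (f.base x)).base z ∈ W ∧ f.base ((f.fiberι (f.base x)).base z) = f.base x := by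
  have h1 : (f.fiberι (f.base x)).base z ⤳ x := by
    have := (specializes_iff_mem_closure.2 hz).map (f.fiberι (f.base x)).continuous
    rwa [f.fiberι_asFiber] at this
  refine ⟨h1.mem_open hW hxW, ?_⟩
  have : (f.fiberι (f.base x)).base z ∈ f ⁻¹' {f.base x} := by rw [← f.range_fiberι]; exact ⟨z, rfl⟩
  exact this

end Groth.Agent.GeomRegFibLib
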